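import Groth.Agent.L09.ElemSq.Basic
import Mathlib.CategoryTheory.Adhesive.Basic
import Mathlib.CategoryTheory.Limits.Types.Pushouts
import Mathlib.CategoryTheory.Sites.LocallyInjective
import Mathlib.CategoryTheory.Sites.LeftExact

/-!
# The sheaf pushout along a monomorphism and the kernel pair of the second corner
-/

universe u

open CategoryTheory CategoryTheory.Limits AlgebraicGeometry Opposite AlgSp TopologicalSpace

set_option autoImplicit false
set_option linter.style.haveILetI false
set_option backward.isDefEq.respectTransparency false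
set_option backward.isDefEq.respectTransparency.types false

noncomputable section

namespace Groth.L09.ElemSq.Glue

open Groth.L23

variable {S : Scheme.{u}}

/-- Two maps into the second corner with the same image agree fppf locally, or come from the overlap. -/
def LocAgree {U V V' W : Sp S} (jV : V' ⟶ V) (f' : V' ⟶ U) (f : V ⟶ W) : Prop :=
  ∀ {T : Over S} (x x' : (yon S).obj T ⟶ V), x ≫ f = x' ≫ f →
    ∃ R : Presieve T.left, R ∈ Scheme.fppfPrecoverage T.left ∧ ∀ ⦃T' : Scheme.{u}⦄ (v : T' ⟶ T.left), R v →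
      ((yon S).map (Over.homMk v rfl : Over.mk (v ≫ T.hom) ⟶ T) ≫ x =
          (yon S).map (Over.homMk v rfl : Over.mk (v ≫ T.hom) ⟶ T) ≫ x' ∨
        ∃ y y' : (yon S).obj (Over.mk (v ≫ T.hom)) ⟶ V',
          y ≫ jV = (yon S).map (Over.homMk v rfl : Over.mk (v ≫ T.hom) ⟶ T) ≫ x ∧
          y' ≫ jV = (yon S).map (Over.homMk v rfl : Over.mk (v ≫ T.hom) ⟶ T) ≫ x' ∧ y ≫ f' = y' ≫ f')

theorem exists_pushout {U V V' : Sp S} (jV : V' ⟶ V) [Mono jV] (f' : V' ⟶ U) :
    ∃ (W : Sp S) (j : U ⟶ W) (f : V ⟶ W), Mono j ∧ IsPushout jV f' f j ∧ IsPullback jV f' f j ∧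
      LocAgree jV f' f := by
  let P := pushout jV.hom f'.hom
  let W : Sp S := (presheafToSheaf (J S) (Type (u + 1))).obj P
  let η : P ⟶ W.obj := toSheafify (J S) P
  let f : V ⟶ W := ObjectProperty.homMk (pushout.inl jV.hom f'.hom ≫ η)
  let j : U ⟶ W := ObjectProperty.homMk (pushout.inr jV.hom f'.hom ≫ η)
  have w : jV ≫ f = f' ≫ j := ObjectProperty.hom_ext _ (pushout.condition_assoc _)
  have hpo : IsPushout jV f' f j := by
    refine IsPushout.of_isColimit' ⟨w⟩ (PushoutCocone.isColimitAux' _ fun s => ?_)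
    let d : P ⟶ s.pt.obj := pushout.desc s.inl.hom s.inr.hom (congrArg (fun φ : V' ⟶ s.pt => φ.hom) s.condition)
    refine ⟨ObjectProperty.homMk (sheafifyLift (J S) d s.pt.property), ObjectProperty.hom_ext _ ?_,
      ObjectProperty.hom_ext _ ?_, fun {m} h₁ h₂ => ObjectProperty.hom_ext _ ?_⟩
    · show (pushout.inl jV.hom f'.hom ≫ η) ≫ sheafifyLift (J S) d s.pt.property = s.inl.hom
      rw [Category.assoc, toSheafify_sheafifyLift, pushout.inl_desc]
    · show (pushout.inr jV.hom f'.hom ≫ η) ≫ sheafifyLift (J S) d s.pt.property = s.inr.hom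
      rw [Category.assoc, toSheafify_sheafifyLift, pushout.inr_desc]
    · refine sheafifyLift_unique _ _ _ _ ?_
      apply pushout.hom_ext
      · rw [pushout.inl_desc, ← Category.assoc]
        exact congrArg (fun φ : V ⟶ s.pt => φ.hom) h₁
      · rw [pushout.inr_desc, ← Category.assoc]
        exact congrArg (fun φ : U ⟶ s.pt => φ.hom) h₂
  haveI : Mono j := Adhesive.mono_of_isPushout_of_mono_left hpo
  refine ⟨W, j, f, inferInstance, hpo, Adhesive.isPullback_of_isPushout_of_mono_left hpo, ?_⟩
  intro T x x' e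
  let ξ := (J S).uliftYonedaEquiv x
  let ξ' := (J S).uliftYonedaEquiv x'
  have he : η.app (op T) ((pushout.inl jV.hom f'.hom).app (op T) ξ) =
      η.app (op T) ((pushout.inl jV.hom f'.hom).app (op T) ξ') := congrArg ((J S).uliftYonedaEquiv) e
  let E₀ : Sieve T := Presheaf.equalizerSieve (F := P) (X := op T) ((pushout.inl jV.hom f'.hom).app (op T) ξ)
    ((pushout.inl jV.hom f'.hom).app (op T) ξ')
  have hmem : E₀ ∈ J S T := Presheaf.equalizerSieve_mem (J S) (toSheafify (J S) P) (X := op T) _ _ he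
  rw [GrothendieckTopology.mem_over_iff] at hmem
  have : Scheme.fppfPrecoverage.{u}.HasPullbacks := by
    unfold Scheme.fppfPrecoverage; infer_instance
  have : Scheme.fppfPrecoverage.{u}.HasIsos := by
    unfold Scheme.fppfPrecoverage
    have : MorphismProperty.ContainsIdentities (@Flat ⊓ @LocallyOfFinitePresentation) :=
      ⟨fun X => ⟨inferInstanceAs (Flat (𝟙 X)), inferInstanceAs (LocallyOfFinitePresentation (𝟙 X))⟩⟩
    infer_instance
  obtain ⟨R, hR, hle⟩ :=
    (Precoverage.mem_toGrothendieck_iff_of_isStableUnderComposition (J := Scheme.fppfPrecoverage)).1 hmem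
  refine ⟨R, hR, fun T' v hv => ?_⟩
  let v' : Over.mk (v ≫ T.hom) ⟶ T := Over.homMk v rfl
  have hv' : E₀.arrows v' := (Sieve.overEquiv_iff (Y := T) E₀ v).1 (hle _ v hv)
  have hc : IsPushout (jV.hom.app (op (Over.mk (v ≫ T.hom)))) (f'.hom.app _)
      ((pushout.inl jV.hom f'.hom).app _) ((pushout.inr jV.hom f'.hom).app _) :=
    (IsPushout.of_hasPushout jV.hom f'.hom).map ((evaluation _ _).obj _)
  haveI : Mono jV.hom := inferInstanceAs (Mono ((sheafToPresheaf (J S) (Type (u + 1))).map jV))
  haveI : Mono (jV.hom.app (op (Over.mk (v ≫ T.hom)))) := inferInstance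
  let i := IsColimit.coconePointUniqueUpToIso hc.isColimit
    (Types.Pushout.isColimitCocone (jV.hom.app (op (Over.mk (v ≫ T.hom)))) (f'.hom.app _))
  have hi : ∀ z, i.hom ((pushout.inl jV.hom f'.hom).app _ z) = Types.Pushout.inl (jV.hom.app _) (f'.hom.app _) z :=
    fun z => ConcreteCategory.congr_hom
      (IsColimit.comp_coconePointUniqueUpToIso_hom hc.isColimit _ WalkingSpan.left) z
  have key : Types.Pushout.inl (jV.hom.app (op (Over.mk (v ≫ T.hom)))) (f'.hom.app _) (V.obj.map v'.op ξ) =
      Types.Pushout.inl (jV.hom.app (op (Over.mk (v ≫ T.hom)))) (f'.hom.app _) (V.obj.map v'.op ξ') := by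
    rw [← hi, ← hi]
    refine congrArg i.hom ?_
    rw [NatTrans.naturality_apply, NatTrans.naturality_apply]
    exact hv'
  rcases (Types.Pushout.inl_rel'_inl_iff _ _ _ _).1 ((Types.Pushout.quot_mk_eq_iff _ _ _ _).1 key) with h | ⟨a, a', h, ha, ha'⟩
  · left
    apply (J S).uliftYonedaEquiv.injective
    rw [← GrothendieckTopology.uliftYonedaEquiv_naturality, ← GrothendieckTopology.uliftYonedaEquiv_naturality]
    exact h
  · refine Or.inr ⟨(J S).uliftYonedaEquiv.symm a, (J S).uliftYonedaEquiv.symm a', ?_, ?_, ?_⟩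
    · apply (J S).uliftYonedaEquiv.injective
      rw [GrothendieckTopology.uliftYonedaEquiv_comp, Equiv.apply_symm_apply,
        ← GrothendieckTopology.uliftYonedaEquiv_naturality]
      exact ha.symm
    · apply (J S).uliftYonedaEquiv.injective
      rw [GrothendieckTopology.uliftYonedaEquiv_comp, Equiv.apply_symm_apply,
        ← GrothendieckTopology.uliftYonedaEquiv_naturality]
      exact ha'.symm
    · apply (J S).uliftYonedaEquiv.injective
      rw [GrothendieckTopology.uliftYonedaEquiv_comp, GrothendieckTopology.uliftYonedaEquiv_comp,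
        Equiv.apply_symm_apply, Equiv.apply_symm_apply]
      exact h

end Groth.L09.ElemSq.Glue
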