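import Groth.Agent.L09.ElemSq.Pushout
import Groth.Agent.L24.Boot.EtaleCharts
import Groth.Agent.L24.Boot.SpaceCofan
import Groth.Agent.L24.Boot.QuotFlat

/-!
# Tools for glueing along open subspaces
-/

universe u

open CategoryTheory CategoryTheory.Limits AlgebraicGeometry Opposite AlgSp TopologicalSpace

set_option autoImplicit false
set_option linter.style.haveILetI false
set_option backward.isDefEq.respectTransparency false
set_option backward.isDefEq.respectTransparency.types false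

noncomputable section

namespace Groth.L09.ElemSq.Glue

open Groth.L23

variable {S : Scheme.{u}}

theorem repBySpWith_of_openImm {G X : Sp S} (f : G ⟶ X) (hf : RepWith @IsOpenImmersion f) :
    RepBySpWith (LocP @Flat ⊓ LocP @LocallyOfFinitePresentation) f.hom :=
  (repBySpWith_hom_iff _ f).2 fun T ξ F' fst snd sq => by
    have hs : RepWith @IsOpenImmersion snd := repWith_of_isPullback sq hf
    exact ⟨isAlgSpace_of_representable_to (IsAlgSpace.yon_obj T) hs.1,
      locP_of_repWith etLocal_flat (repWith_mono (fun φ (_ : IsOpenImmersion φ) => inferInstanceAs (Flat φ)) hs),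
      locP_of_repWith etLocal_lfp (repWith_mono (fun φ (_ : IsOpenImmersion φ) =>
        inferInstanceAs (LocallyOfFinitePresentation φ)) hs)⟩

/-- A sheaf covered by open algebraic subspaces. -/
theorem isAlgSpace_of_open_cover {X : Sp S} {I : Type u} {G : I → Sp S} (hG : ∀ i, IsAlgSpace (G i))
    (f : ∀ i, G i ⟶ X) (hf : ∀ i, RepWith @IsOpenImmersion (f i))
    (hsurj : ∀ y : Points X, ∃ i x, Points.map (f i) x = y) : IsAlgSpace X :=
  Groth.L24.Boot.isAlgSpace_of_flat_cover hG f (fun i => repBySpWith_of_openImm _ (hf i)) hsurj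

/-- Being etale is local on an open cover of the source. -/
theorem isEtaleMor_of_open_cover {X Y : Sp S} (hY : IsAlgSpace Y) {I : Type u} {G : I → Sp S}
    (f : ∀ i, G i ⟶ X) (hf : ∀ i, RepWith @IsOpenImmersion (f i))
    (hsurj : ∀ y : Points X, ∃ i x, Points.map (f i) x = y) (g : X ⟶ Y) (hg : ∀ i, IsEtaleMor (f i ≫ g)) :
    IsEtaleMor g := by
  intro A a ha
  haveI : ∀ i, IsOpenImmersion ((hf i).1.snd a).left := fun i => repWith_snd (hf i) a
  refine Filtration.repWith_etale_of_cover hY (fun i => (hf i).1.snd a) (fun t => ?_) (a ≫ g) fun i => ?_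
  · obtain ⟨i, x, hx⟩ := hsurj (Points.ofPt a t)
    obtain ⟨r, -, hr⟩ := exists_point_of_isPullback ((hf i).1.isPullback a) (x := x) (u := t) hx
    exact ⟨i, r, hr⟩
  · rw [← Category.assoc, ← ((hf i).1.isPullback a).w, Category.assoc]
    exact hg i _ (repWith_of_isPullback ((hf i).1.isPullback a).flip ha)

/-- The fibre product of two charts over a square. -/
theorem piece {A B : Over S} {X₀ Y₀ W P : Sp S} (hX : IsAlgSpace X₀) (hY : IsAlgSpace Y₀) (hP : IsAlgSpace P)
    {p : P ⟶ X₀} {q : P ⟶ Y₀} {x : X₀ ⟶ W} {y : Y₀ ⟶ W} (sP : IsPullback p q x y) (hp : IsEtaleMor p)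
    (a : (yon S).obj A ⟶ X₀) (b : (yon S).obj B ⟶ Y₀) (hb : RepWith @Etale b) :
    IsAlgSpace (pullback (a ≫ x) (b ≫ y)) ∧ IsEtaleMor (pullback.fst (a ≫ x) (b ≫ y)) := by
  have s₁ := IsPullback.of_hasPullback a p
  have hM : IsAlgSpace (pullback a p) := isAlgSpace_of_isPullback hX.diag (IsAlgSpace.yon_obj A) hP s₁
  have hMe : IsEtaleMor (pullback.fst a p) :=
    StLocal.isEtaleMor_snd_of_isPullback hP hX hM (IsAlgSpace.yon_obj A) s₁.flip hp
  have s₁' : IsPullback (pullback.fst a p) (pullback.snd a p ≫ q) (a ≫ x) y := s₁.paste_vert sP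
  have s₂ := IsPullback.of_hasPullback (pullback.snd a p ≫ q) b
  have hN : IsAlgSpace (pullback (pullback.snd a p ≫ q) b) :=
    isAlgSpace_of_isPullback hY.diag hM (IsAlgSpace.yon_obj B) s₂
  have hNe : IsEtaleMor (pullback.fst (pullback.snd a p ≫ q) b ≫ pullback.fst a p) :=
    StLocal.isEtaleMor_comp (StLocal.isEtaleMor_of_repWith hN hM (repWith_of_isPullback s₂.flip hb)) hMe
  have s₃ : IsPullback (pullback.fst (pullback.snd a p ≫ q) b ≫ pullback.fst a p) (pullback.snd (pullback.snd a p ≫ q) b)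
      (a ≫ x) (b ≫ y) := s₂.paste_horiz s₁'
  have hPb : IsAlgSpace (pullback (a ≫ x) (b ≫ y)) := hN.of_iso s₃.isoPullback
  refine ⟨hPb, ?_⟩
  rw [← s₃.isoPullback_inv_fst]
  exact StLocal.isEtaleMor_comp (StLocal.isEtaleMor_of_repWith hPb hN (repWith_of_isIso _)) hNe

theorem repWith_pullback_map₂ {A B A' B' Z : Sp S} (a : A ⟶ A') (b : B ⟶ B') (x : A' ⟶ Z) (y : B' ⟶ Z)
    (ha : RepWith @IsOpenImmersion a) (hb : RepWith @IsOpenImmersion b) :
    RepWith @IsOpenImmersion (pullback.map (a ≫ x) (b ≫ y) x y a b (𝟙 Z) (by simp) (by simp)) := by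
  let a₁ : pullback (a ≫ x) (b ≫ y) ⟶ pullback x (b ≫ y) :=
    pullback.map _ _ _ _ a (𝟙 _) (𝟙 Z) (by simp) (by simp)
  let a₂ : pullback x (b ≫ y) ⟶ pullback x y :=
    pullback.map _ _ _ _ (𝟙 _) b (𝟙 Z) (by simp) (by simp)
  have e : a₁ ≫ a₂ = pullback.map (a ≫ x) (b ≫ y) x y a b (𝟙 Z) (by simp) (by simp) := by
    apply pullback.hom_ext <;> simp [pullback.map, a₁, a₂]
  have s₁ : IsPullback (pullback.fst (a ≫ x) (b ≫ y)) a₁ a (pullback.fst x (b ≫ y)) := by
    refine IsPullback.of_bot ?_ (by simp [pullback.map, a₁]) (IsPullback.of_hasPullback x (b ≫ y))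
    simpa [pullback.map, a₁] using IsPullback.of_hasPullback (a ≫ x) (b ≫ y)
  have s₂ : IsPullback (pullback.snd x (b ≫ y)) a₂ b (pullback.snd x y) := by
    refine IsPullback.of_bot ?_ (by simp [pullback.map, a₂]) (IsPullback.of_hasPullback x y).flip
    simpa [pullback.map, a₂] using (IsPullback.of_hasPullback x (b ≫ y)).flip
  rw [← e]
  exact repWith_comp (repWith_of_isPullback s₁ ha) (repWith_of_isPullback s₂ hb)

end Groth.L09.ElemSq.Glue
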