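import Groth.Agent.L09.ElemSq.Glue.Kernel
import Groth.Agent.L09.ElemSq.Glue.Tools
import Groth.Agent.L09.ElemSq.Separated

/-!
# The pushout along an open subspace is an algebraic space
-/

universe u

open CategoryTheory CategoryTheory.Limits AlgebraicGeometry Opposite AlgSp TopologicalSpace

set_option autoImplicit false
set_option linter.style.haveILetI false
set_option backward.isDefEq.respectTransparency false
set_option backward.isDefEq.respectTransparency.types false

noncomputable section

namespace Groth.L09.ElemSq.Glue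

open Groth.L23

variable {S : Scheme.{u}} {U V V' W : Sp S} {jV : V' ⟶ V} {f' : V' ⟶ U} {j : U ⟶ W} {f : V ⟶ W}

theorem exists_mem_range_of_mem_fppf {T : Scheme.{u}} {R : Presieve T} (hR : R ∈ Scheme.fppfPrecoverage T) (t : T) :
    ∃ (T' : Scheme.{u}) (v : T' ⟶ T), R v ∧ t ∈ Set.range v := by
  have h := hR.1
  rw [Scheme.jointlySurjectivePrecoverage, Presieve.mem_comap_jointlySurjectivePrecoverage_iff] at h
  obtain ⟨T', v, hv, ht⟩ := h t
  exact ⟨T', v, hv, ht⟩

/-- The facts about the kernel pair of the second corner. -/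
theorem kernel_facts (hU : IsAlgSpace U) (hV : IsAlgSpace V) (hV' : IsAlgSpace V')
    (hjV : RepWith @IsOpenImmersion jV) (he : IsEtaleMor f') [Mono j] (w : jV ≫ f = f' ≫ j)
    (hL : LocAgree jV f' f) :
    IsAlgSpace (pullback f f) ∧ IsEtaleMor (pullback.fst f f) ∧ RepWith @IsOpenImmersion (pullback.diagonal f) ∧
      (∀ e : Points (pullback f f), e ∈ Set.range (Points.map (pullback.diagonal f)) ∨
        Points.map (pullback.fst f f) e ∈ Set.range (Points.map jV)) := by
  haveI := mono_of_repWith_openImmersion hjV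
  -- the kernel pair of the overlap
  have sQ : IsPullback (pullback.fst f' f') (pullback.snd f' f') (jV ≫ f) (jV ≫ f) := by
    rw [w]
    exact IsPullback.mk' (pullback.condition_assoc _) (fun Z a b h₁ h₂ => pullback.hom_ext h₁ h₂)
      fun Z a b h => ⟨pullback.lift a b ((cancel_mono j).1 (by simpa using h)), pullback.lift_fst _ _ _,
        pullback.lift_snd _ _ _⟩
  have hQ' : IsAlgSpace (pullback f' f') := isAlgSpace_of_isPullback hU.diag hV' hV' (IsPullback.of_hasPullback f' f')
  have hQ : IsAlgSpace (pullback (jV ≫ f) (jV ≫ f)) := hQ'.of_iso sQ.isoPullback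
  have hdf' : RepWith @IsOpenImmersion (pullback.diagonal f') :=
    repWith_isOpenImmersion_diagonal_of_unramified hV' hU (fun A B a b h ha hb w => by
      haveI : Etale h.left := (isEtaleMor_iff_locP hV' hU f').1 he a b h ha hb w
      exact ⟨inferInstance, inferInstance⟩)
  have hcmp : RepWith @IsOpenImmersion (cmp jV jV f) :=
    repWith_cmp_of_conj (IsKernelPair.id_of_mono jV) sQ (pullback.diagonal f') (pullback.diagonal_fst f')
      (pullback.diagonal_snd f') hdf'
  have hdr : Representable (pullback.diagonal f) := by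
    let p : pullback f f ⟶ V ⨯ V := prod.lift (pullback.fst f f) (pullback.snd f f)
    haveI : Mono p := ⟨fun a b h => pullback.hom_ext (by simpa [p] using h =≫ prod.fst)
      (by simpa [p] using h =≫ prod.snd)⟩
    have hp : pullback.diagonal f ≫ p = Limits.diag V := by ext <;> simp [p]
    have sp : IsPullback (𝟙 V) (pullback.diagonal f) (Limits.diag V) p :=
      IsPullback.mk' (by rw [Category.id_comp, hp]) (fun Z a b h₁ _ => by simpa using h₁)
        fun Z a b h => ⟨a, Category.comp_id _, (cancel_mono p).1 (by rw [Category.assoc, hp]; exact h)⟩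
    exact MorphismProperty.of_isPullback sp hV.diag
  haveI := isLocalAtTarget_fppf (@IsOpenImmersion.{u})
  have hδ : RepWith @IsOpenImmersion (pullback.diagonal f) := by
    refine repWith_of_snd hdr fun T k => ?_
    have sR := hdr.isPullback k
    obtain ⟨R₀, hR₀, hR⟩ := hL (k ≫ pullback.fst f f) (k ≫ pullback.snd f f) (by
      rw [Category.assoc, Category.assoc, pullback.condition])
    refine MorphismProperty.IsLocalAtTarget.of_forall_pullbackSnd (P := @IsOpenImmersion) hR₀ ?_
    intro T' v _ hv
    let v' : Over.mk (v ≫ T.hom) ⟶ T := Over.homMk v rfl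
    have s₀ := IsPullback.of_hasPullback (hdr.snd k) v'
    have s₁ := (s₀.map (yon S)).paste_horiz sR
    have h : IsOpenImmersion (pullback.snd (hdr.snd k) v').left := by
      rcases hR v hv with h | ⟨y, y', hy, hy', -⟩
      · obtain ⟨l, -, hl⟩ := s₁.exists_lift ((yon S).map v' ≫ k ≫ pullback.fst f f) (𝟙 _) (by
          apply pullback.hom_ext
          · simp [v']
          · simpa [v'] using h)
        obtain ⟨l, rfl⟩ := (yon S).map_surjective l
        haveI : Mono ((yon S).map (pullback.snd (hdr.snd k) v')) := by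
          haveI : Mono (pullback.diagonal f) := inferInstance
          exact MorphismProperty.of_isPullback (P := MorphismProperty.monomorphisms (Sp S)) s₁ ‹_›
        haveI : IsIso ((yon S).map (pullback.snd (hdr.snd k) v')) :=
          ⟨(yon S).map l, by rw [← cancel_mono ((yon S).map (pullback.snd (hdr.snd k) v')), Category.assoc, hl, Category.comp_id, Category.id_comp], hl⟩
        haveI : IsIso (pullback.snd (hdr.snd k) v') := isIso_of_reflects_iso _ (yon S)
        haveI : IsIso (pullback.snd (hdr.snd k) v').left := inferInstanceAs (IsIso ((Over.forget S).map _))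
        infer_instance
      · exact prop_of_factor hcmp s₁ y y' (by rw [hy, Category.assoc]) (by rw [hy', Category.assoc])
    have s₂ := s₀.map (Over.forget S)
    refine (MorphismProperty.cancel_left_of_respectsIso @IsOpenImmersion s₂.isoPullback.hom _).1 ?_
    have e : s₂.isoPullback.hom ≫ pullback.snd (hdr.snd k).left v = (pullback.snd (hdr.snd k) v').left :=
      s₂.isoPullback_hom_snd
    rw [e]
    exact h
  let q : pullback (jV ≫ f) (jV ≫ f) ⟶ pullback f f :=
    pullback.map (jV ≫ f) (jV ≫ f) f f jV jV (𝟙 W) (by simp) (by simp)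
  have hq : RepWith @IsOpenImmersion q := repWith_pullback_map₂ jV jV f f hjV hjV
  have hcov : ∀ e : Points (pullback f f), e ∈ Set.range (Points.map (pullback.diagonal f)) ∨
      e ∈ Set.range (Points.map q) := by
    intro e
    obtain ⟨K, _, _, wK, k, z, rfl⟩ := Filtration.exists_geometric e
    obtain ⟨R₀, hR₀, hR⟩ := hL (k ≫ pullback.fst f f) (k ≫ pullback.snd f f) (by
      rw [Category.assoc, Category.assoc, pullback.condition])
    obtain ⟨T', v, hv, z', rfl⟩ := exists_mem_range_of_mem_fppf hR₀ z
    let v' : Over.mk (v ≫ wK) ⟶ Over.mk wK := Over.homMk v rfl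
    have hz : Points.ofPt k (v z') = Points.ofPt ((yon S).map v' ≫ k) z' := (ofPt_comp v' k z').symm
    rcases hR v hv with h | ⟨y, y', hy, hy', hyy⟩
    · left
      rw [hz]
      refine ⟨Points.ofPt ((yon S).map v' ≫ k ≫ pullback.fst f f) z', ?_⟩
      rw [Points.map_ofPt]
      congr 1
      apply pullback.hom_ext
      · simp
      · simpa [v'] using h
    · right
      rw [hz]
      refine ⟨Points.ofPt (sQ.isoPullback.hom |> fun i => pullback.lift y y' hyy ≫ i) z', ?_⟩
      rw [Points.map_ofPt]
      congr 1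
      apply pullback.hom_ext
      · simp [q, pullback.map, v', hy]
      · simp [q, pullback.map, v', hy']
  let G : ULift.{u} Bool → Sp S := fun i => match i with
    | ⟨true⟩ => V
    | ⟨false⟩ => pullback (jV ≫ f) (jV ≫ f)
  let g : ∀ i, G i ⟶ pullback f f := fun i => match i with
    | ⟨true⟩ => pullback.diagonal f
    | ⟨false⟩ => q
  have hg : ∀ i, RepWith @IsOpenImmersion (g i) := fun i => match i with
    | ⟨true⟩ => hδ
    | ⟨false⟩ => hq
  have hsur : ∀ e : Points (pullback f f), ∃ i x, Points.map (g i) x = e := fun e => by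
    rcases hcov e with ⟨x, hx⟩ | ⟨x, hx⟩
    · exact ⟨⟨true⟩, x, hx⟩
    · exact ⟨⟨false⟩, x, hx⟩
  refine ⟨isAlgSpace_of_open_cover (G := G) (fun i => match i with | ⟨true⟩ => hV | ⟨false⟩ => hQ) g hg hsur,
    isEtaleMor_of_open_cover hV (G := G) g hg hsur _ fun i => ?_, hδ, fun e => ?_⟩
  · match i with
    | ⟨true⟩ =>
      show IsEtaleMor (pullback.diagonal f ≫ pullback.fst f f)
      rw [pullback.diagonal_fst]
      exact StLocal.isEtaleMor_of_repWith hV hV (repWith_of_isIso _)
    | ⟨false⟩ =>
      show IsEtaleMor (q ≫ pullback.fst f f)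
      rw [show q ≫ pullback.fst f f = sQ.isoPullback.inv ≫ pullback.fst f' f' ≫ jV by simp [q, pullback.map]]
      refine StLocal.isEtaleMor_comp (StLocal.isEtaleMor_of_repWith hQ hQ' (repWith_of_isIso _))
        (StLocal.isEtaleMor_comp (StLocal.isEtaleMor_snd_of_isPullback hV' hU hQ' hV'
          (IsPullback.of_hasPullback f' f').flip he) (Filtration.isEtaleMor_of_openImm hV' hV hjV))
  · rcases hcov e with h | ⟨x, rfl⟩
    · exact Or.inl h
    · exact Or.inr ⟨Points.map (pullback.fst _ _) x, by
        rw [← Points.map_comp, ← Points.map_comp]; congr 1; simp [q, pullback.map]⟩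

theorem piece' {A B : Over S} {X₀ Y₀ W P : Sp S} (hX : IsAlgSpace X₀) (hY : IsAlgSpace Y₀) (hP : IsAlgSpace P)
    {p : P ⟶ X₀} {q : P ⟶ Y₀} {x : X₀ ⟶ W} {y : Y₀ ⟶ W} (sP : IsPullback p q x y) (hp : IsEtaleMor p)
    (a : (yon S).obj A ⟶ X₀) (b : (yon S).obj B ⟶ Y₀) (hb : RepWith @Etale b) {c₁ : (yon S).obj A ⟶ W}
    {c₂ : (yon S).obj B ⟶ W} (e₁ : c₁ = a ≫ x) (e₂ : c₂ = b ≫ y) :
    IsAlgSpace (pullback c₁ c₂) ∧ IsEtaleMor (pullback.fst c₁ c₂) := by
  subst e₁ e₂
  exact piece hX hY hP sP hp a b hb

/-- The pushout is an algebraic space and the square is elementary distinguished. -/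
theorem space_facts (hU : IsAlgSpace U) (hV : IsAlgSpace V) (hV' : IsAlgSpace V')
    (hjV : RepWith @IsOpenImmersion jV) (he : IsEtaleMor f') [Mono j] (hpo : IsPushout jV f' f j)
    (hpb : IsPullback jV f' f j) (hL : LocAgree jV f' f) : IsAlgSpace W ∧ IsElemDistSq j f := by
  obtain ⟨hE, hEe, hδ, hEcov⟩ := kernel_facts hU hV hV' hjV he hpo.w hL
  obtain ⟨A, aU, hAe, hAs⟩ := hU.atlas
  obtain ⟨B, aV, hBe, hBs⟩ := hV.atlas
  obtain ⟨G, kA, kB, _, _, hcov, hglue⟩ := exists_sum A B
  obtain ⟨d, hdA, hdB⟩ := hglue (aU ≫ j) (aV ≫ f)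
  haveI := epi_of_repWith aU hAe hAs
  haveI := epi_of_repWith aV hBe hBs
  haveI : Epi d := ⟨fun g h e => hpo.hom_ext
    ((cancel_epi aV).1 (by rw [← reassoc_of% hdB, e, reassoc_of% hdB]))
    ((cancel_epi aU).1 (by rw [← reassoc_of% hdA, e, reassoc_of% hdA]))⟩
  let C : Bool → Over S := fun b => bif b then A else B
  let k : ∀ b, C b ⟶ G := fun b => match b with
    | true => kA
    | false => kB
  haveI hko : ∀ b, IsOpenImmersion (k b).left := fun b => match b with
    | true => ‹IsOpenImmersion kA.left›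
    | false => ‹IsOpenImmersion kB.left›
  have hk : ∀ b, RepWith @IsOpenImmersion ((yon S).map (k b)) := fun b => repWith_map (hko b)
  let P : ULift.{u} (Bool × Bool) → Sp S := fun i => pullback ((yon S).map (k i.down.1) ≫ d) ((yon S).map (k i.down.2) ≫ d)
  let g : ∀ i, P i ⟶ pullback d d := fun i =>
    pullback.map _ _ _ _ ((yon S).map (k i.down.1)) ((yon S).map (k i.down.2)) (𝟙 W) (by simp) (by simp)
  have hg : ∀ i, RepWith @IsOpenImmersion (g i) := fun i => repWith_pullback_map₂ _ _ d d (hk _) (hk _)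
  have hP : ∀ i, IsAlgSpace (P i) ∧ IsEtaleMor (pullback.fst _ _ : P i ⟶ (yon S).obj (C i.down.1)) := by
    have hidU : IsEtaleMor (𝟙 U) := StLocal.isEtaleMor_of_repWith hU hU (repWith_of_isIso _)
    have hjVe : IsEtaleMor jV := Filtration.isEtaleMor_of_openImm hV' hV hjV
    rintro ⟨⟨_ | _, _ | _⟩⟩
    · exact piece' hV hV hE (IsPullback.of_hasPullback f f) hEe aV aV hBe hdB hdB
    · exact piece' hV hU hV' hpb hjVe aV aU hAe hdB hdA
    · exact piece' hU hV hV' hpb.flip he aU aV hBe hdA hdB
    · exact piece' hU hU hU (IsKernelPair.id_of_mono j) hidU aU aU hAe hdA hdA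
  have hsur : ∀ r : Points (pullback d d), ∃ i x, Points.map (g i) x = r := by
    intro r
    obtain ⟨K, _, _, wK, q, z, rfl⟩ := Filtration.exists_geometric r
    obtain ⟨t₁, ht₁⟩ := (yon S).map_surjective (q ≫ pullback.fst d d)
    obtain ⟨t₂, ht₂⟩ := (yon S).map_surjective (q ≫ pullback.snd d d)
    obtain ⟨b₁, h₁⟩ : ∃ b, t₁.left z ∈ Set.range (k b).left :=
      (hcov (t₁.left z)).elim (fun h => ⟨true, h⟩) fun h => ⟨false, h⟩
    obtain ⟨b₂, h₂⟩ : ∃ b, t₂.left z ∈ Set.range (k b).left :=
      (hcov (t₂.left z)).elim (fun h => ⟨true, h⟩) fun h => ⟨false, h⟩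
    let O := t₁.left ⁻¹ᵁ (k b₁).left.opensRange ⊓ t₂.left ⁻¹ᵁ (k b₂).left.opensRange
    obtain ⟨y, hy⟩ := exists_lift_open (k b₁) t₁ O inf_le_left
    obtain ⟨y', hy'⟩ := exists_lift_open (k b₂) t₂ O inf_le_right
    let l : (yon S).obj (openObj O) ⟶ P ⟨b₁, b₂⟩ := pullback.lift ((yon S).map y) ((yon S).map y') (by
      simp only [← Functor.map_comp_assoc, hy, hy']
      simp only [Functor.map_comp, Category.assoc, ht₁, ht₂, pullback.condition])
    refine ⟨⟨b₁, b₂⟩, Points.ofPt l ⟨z, h₁, h₂⟩, ?_⟩
    rw [Points.map_ofPt, ← ofPt_openMk O q ⟨z, h₁, h₂⟩]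
    congr 1
    apply pullback.hom_ext
    · simp only [g, l, pullback.map, Category.assoc, pullback.lift_fst, pullback.lift_fst_assoc]
      rw [← Functor.map_comp, hy, Functor.map_comp, ht₁]
    · simp only [g, l, pullback.map, Category.assoc, pullback.lift_snd, pullback.lift_snd_assoc]
      rw [← Functor.map_comp, hy', Functor.map_comp, ht₂]
  have hG := IsAlgSpace.yon_obj G
  have hR : IsAlgSpace (pullback d d) := isAlgSpace_of_open_cover (fun i => (hP i).1) g hg hsur
  have hte : IsEtaleMor (pullback.fst d d) := isEtaleMor_of_open_cover hG g hg hsur _ fun i => by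
    rw [show g i ≫ pullback.fst d d = pullback.fst _ _ ≫ (yon S).map (k i.down.1) by simp [g, pullback.map]]
    exact StLocal.isEtaleMor_comp (hP i).2 (Filtration.isEtaleMor_of_openImm (IsAlgSpace.yon_obj _) hG (hk _))
  have htl : LocP @Etale (pullback.fst d d) := (isEtaleMor_iff_locP hR hG _).1 hte
  have hW : IsAlgSpace W := Groth.L24.Boot.isAlgSpace_of_kernelPair (IsPullback.of_hasPullback d d) hR hG
    (fun A B a b h ha hb w => by haveI := htl a b h ha hb w; infer_instance)
    (fun A B a b h ha hb w => by haveI := htl a b h ha hb w; infer_instance)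
  have hdr : Representable d := hW.representable_from_yon d
  have htr : Representable (pullback.fst d d) :=
    MorphismProperty.of_isPullback (IsPullback.of_hasPullback d d).flip hdr
  haveI : Sheaf.IsLocallySurjective d := (Sheaf.isLocallySurjective_iff_epi' _ d).2 inferInstance
  haveI := isLocalAtTarget_fppf (@Etale.{u})
  haveI := isLocalAtTarget_fppf (@Surjective.{u})
  have hde : RepWith @Etale d := repWith_of_locallySurjective hdr (IsPullback.of_hasPullback d d).flip
    (repWith_of_locP etLocal_etale hG htr htl)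
  have hds : RepWith @Surjective d := repWith_of_locallySurjective hdr (IsPullback.of_hasPullback d d).flip
    (repWith_surjective_of_map htr fun x => ⟨Points.map (pullback.diagonal d) x, by
      rw [← Points.map_comp, pullback.diagonal_fst, Points.map_id]⟩)
  have hje : LocP @Etale j := locP_of_chart etLocal_etale hAe hAs hde hdA.symm
    (inferInstanceAs (Etale kA.left))
  have hfe : LocP @Etale f := locP_of_chart etLocal_etale hBe hBs hde hdB.symm
    (inferInstanceAs (Etale kB.left))
  have hjo : RepWith @IsOpenImmersion j := repWith_isOpenImmersion_of_etale_mono hU hW j hje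
  refine ⟨hW, hjo, (isEtaleMor_iff_locP hV hW f).2 hfe, ?_⟩
  have hc : IsClosed (Set.range (Points.map j))ᶜ := isClosed_compl_iff.2
    (isOpenMap_map_of_representable hjo.1 (fun _ g => by
      haveI : IsOpenImmersion (hjo.1.snd g).left := repWith_snd hjo g
      exact (hjo.1.snd g).left.isOpenEmbedding.isOpenMap)).isOpen_range
  obtain ⟨T, hT, i, hi, hir, hred⟩ := exists_isRedInduced hW hc
  refine ⟨T, _, i, pullback.fst i f, pullback.snd i f, ⟨hi, hir, hred⟩, IsPullback.of_hasPullback i f, ?_⟩
  have hPs : IsAlgSpace (pullback i f) := isAlgSpace_of_isPullback hW.diag hT hV (IsPullback.of_hasPullback i f)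
  haveI : Mono (pullback.fst i f) := mono_of_yon fun Z a b e => by
    refine pullback.hom_ext e ?_
    let kk : (yon S).obj Z ⟶ pullback f f := pullback.lift (a ≫ pullback.snd i f) (b ≫ pullback.snd i f) (by
      simp only [Category.assoc, ← pullback.condition]; rw [reassoc_of% e])
    have sk := hδ.1.isPullback kk
    haveI : IsOpenImmersion (hδ.1.snd kk).left := repWith_snd hδ kk
    haveI : Surjective (hδ.1.snd kk).left := ⟨fun t => by
      rcases hEcov (Points.ofPt kk t) with ⟨y, hy⟩ | ⟨y, hy⟩
      · obtain ⟨r, -, hr⟩ := exists_point_of_isPullback sk (x := y) (u := t) hy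
        exact ⟨r, hr⟩
      · exfalso
        rw [Points.map_ofPt, pullback.lift_fst] at hy
        have h1 : Points.ofPt ((a ≫ pullback.fst i f) ≫ i) t ∈ Set.range (Points.map j) := by
          refine ⟨Points.map f' y, ?_⟩
          rw [← Points.map_comp, ← hpb.w, Points.map_comp, hy, Points.map_ofPt, Category.assoc, Category.assoc,
            ← pullback.condition]
        exact hir.le ⟨Points.ofPt (a ≫ pullback.fst i f) t, Points.map_ofPt _ _ _⟩ h1⟩
    haveI : IsIso ((yon S).map (hδ.1.snd kk)) := isIso_of_openImmersion_surjective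
      (repWith_of_isPullback sk hδ) (surjective_map_of_repWith (repWith_map ‹Surjective (hδ.1.snd kk).left›))
    have e₁ := sk.w =≫ pullback.fst f f
    have e₂ := sk.w =≫ pullback.snd f f
    simp only [kk, Category.assoc, pullback.diagonal_fst, pullback.diagonal_snd, pullback.lift_fst, pullback.lift_snd] at e₁ e₂
    exact (cancel_epi ((yon S).map (hδ.1.snd kk))).1 (e₁.symm.trans e₂)
  refine isIso_of_openImmersion_surjective (repWith_isOpenImmersion_of_etale_mono hPs hT _
    (locP_of_isPullback etLocal_etale hV hW hT (IsPullback.of_hasPullback i f).flip hfe)) fun x => ?_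
  obtain ⟨t, ht⟩ := surjective_ofPt hds (Points.map i x)
  rcases hcov t with ⟨s, rfl⟩ | ⟨s, rfl⟩
  · refine absurd ⟨Points.ofPt aU s, ?_⟩ (hir.le ⟨x, rfl⟩)
    rw [← ht, Points.map_ofPt, ← hdA, ofPt_comp]
  · obtain ⟨p, hp, -⟩ := exists_of_isPullback (IsPullback.of_hasPullback i f) x (Points.ofPt aV s) (by
      rw [← ht, Points.map_ofPt, ← hdB, ofPt_comp])
    exact ⟨p, hp⟩

end Groth.L09.ElemSq.Glue
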